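import Cfsg.Agent.LV.E6.Fr

/-!
# LV, `E₆` and `²E₆` for `p = 5`: the group side in the shape asked by helper84 (helper29)

`c`, `Cs`, `Fm.Fw_eq`, `Cs.Fw_simple`, `Fm.cub_le`, `Fm.card_CW2`, `Fm.card_CW4`, `BoxH`, `rows_of`.
-/

set_option autoImplicit false
set_option linter.unusedSectionVars false

namespace Cfsg.Agent.LV.E6

open CoxeterSystem Cfsg Cfsg.Lie Cfsg.Agent.DL Cfsg.Agent.DL.PP Cfsg.Agent.KZ.Lie Cfsg.Agent.KZ.DatX Cfsg.Agent.LV.Blk
  Cfsg.Agent.ChevalleyStructure.CoxeterGeomTypes Cfsg.Agent.Nodes.RGDChev Matrix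

/-- a Coxeter element -/
def c : W6 := wd [0, 3, 5, 1, 2, 4]

/-- a simple reflection -/
abbrev sr (i : Fin 6) : W6 := CoxeterMatrix.E₆.toCoxeterSystem.simple i

theorem c_pow (j : ℕ) : c ^ j = wd (pwL [0, 3, 5, 1, 2, 4] j) := by
  induction j with
  | zero => rfl
  | succ j ih => rw [pow_succ', ih]; exact (wordProd_append _ _ _).symm

theorem c_six : c ^ 6 = wd L2 := c_pow 6

theorem c_three : c ^ 3 = wd L4 := c_pow 3

theorem wd_single (i : Fin 6) : wd [i] = sr i := wordProd_singleton _ i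

theorem wd_01 : wd [0, 1] = sr 0 * sr 1 := by
  rw [← wd_single, ← wd_single]
  exact wordProd_append _ [0] [1]

/-- the two cases -/
def Cs (Mx : Matrix (Fin 6) (Fin 6) ℤ) (w₀ : W6) (Q : ℤ) : Prop :=
  (Mx = Q • 1 ∧ w₀ = 1) ∨ (Mx = (-Q) • P6 ∧ w₀ = c ^ 6)

/-- the diagram symmetry -/
def fl : Fin 6 → Fin 6 := ![5, 1, 4, 3, 2, 0]

/-- decoding of a word -/
def dec : ℕ → ℕ → List (Fin 6)
  | 0, _ => []
  | f + 1, n => if n = 0 then [] else Fin.ofNat 6 (n % 8 - 1) :: dec f (n / 8)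

/-- a number attached to a vector -/
def hs (v : List ℤ) : ℕ := v.foldl (fun a x => (x + 32).toNat + 64 * a) 0

/-- a number attached to the conjugate of `U` by `L` -/
def key (U L : List (Fin 6)) : ℕ := hs (app rowsE6 (L ++ U ++ L.reverse) (List.ofFn fun _ : Fin 6 => 1))

/-- the conjugates of the longest element -/
def cl2 : List ℕ := [378211, 2934115, 23471971, 187775331, 1502202654, 226, 28, 738, 92, 3, 5909, 45853, 5731, 741, 867, 443621, 47276,
  2933996, 23471916, 187775334, 0, 3548974, 55452, 11, 23471918, 366748, 2933989, 6931, 45843, 366749, 5733, 1, 89,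
  366764, 716, 13, 45845, 108, 5730, 866, 12017621198, 1502202649, 187775769, 23472921, 3025689]

/-- the conjugates of its square root -/
def cl4 : List ℕ := [45853, 5731, 104693, 13085, 1635, 13086, 13075, 104606, 836853, 104605, 366749, 45843, 104604, 836838, 6694828,
  2933996, 836844, 366748, 836837, 53557676, 6694709, 23471916, 6694700, 2933989, 35, 286, 14492, 23472915, 45922,
  53570323, 6694702, 227, 1822, 53558627, 428460972, 53557621, 23471971, 187775334, 53557606, 23471918, 1811, 14494,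
  5740, 6696291, 2204, 2934115, 717, 275, 20, 665, 17762, 7421283, 366946, 9842019, 14581, 172, 428461411, 187775331,
  45868, 40250723, 115957, 1378, 2220, 21808483, 89, 162, 5324, 42597, 166, 1333, 2934114, 927660, 2, 21, 105826,
  3024739, 5917, 739, 5733, 716, 839010, 1453411, 3427687779, 1502202654, 2575945059, 321994083, 354, 5123427, 2402,
  929123, 104876, 11627283, 13228, 24197907, 47261, 5907, 34, 1395734883, 277, 718, 174466915, 1302, 10668, 47340, 37,
  59463836, 4, 475710693, 22, 99, 628892, 6696290, 5031141, 378092, 13109, 1637, 300, 1703529827, 212942179, 7432979,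
  44, 26619235, 20607556963, 93018268, 2838, 11615587, 45845, 5730, 19222, 27411, 1754341, 378211, 78611, 219292, 0,
  5, 366764, 205, 2726060, 11165879070, 1653, 193583260, 42594, 340757, 1452, 6380, 302, 24205468, 181, 797, 38,
  3805685550, 9827, 1005724, 5031142, 1230252, 40249134, 181676, 2406, 3427, 8045797, 3025683, 13628235107, 28392803,
  204, 1638, 358, 3550563, 5953169198, 744146149, 104629, 13077, 22709, 21899107, 153781, 191251, 14034734, 2737507,
  2726044, 837036, 21808357, 3024738, 25, 628894, 12389328686, 6, 1530012, 46, 206, 1548666085, 85346, 378722, 42595,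
  60474597, 1230, 193643749, 153, 1549149998, 78622, 3233948, 19253, 23907, 64366382, 21900051, 40249141, 321993077,
  2869, 1817075043, 227134819, 22424931, 125715, 1634, 13078, 15715, 5462172, 5031340, 174466862, 1453410, 1469203,
  97920814, 5031157, 12240101, 53, 373, 174466860, 340755, 11618, 51042, 340765, 85347, 7559324, 483796782, 9830,
  78645, 628981, 25871589, 1228, 22956, 183651, 206972718, 428, 2988, 404243, 1401603301, 11212826414, 944915,
  175200412, 321993132, 40249260, 2575944620, 11753628, 752232238, 94029029, 11480751459, 179387747, 118115,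
  1435094371, 43697381, 349579054, 3426, 23906, 50531, 9826, 183650, 78614, 628917, 1395734886, 21808364, 2726045,
  682771, 378723, 11619, 3037340, 194389806, 415989, 24520501, 55541, 196163957, 383134, 212941228, 26617772,
  1703529388, 3549100, 227134380, 28391852, 379667, 47459, 5948645, 47589166, 47902, 1551247150, 24238236, 3029779,
  92947, 51043, 24298725, 1254, 10037, 51998, 3065062, 26617653, 156, 212941173, 22773, 355, 2846, 6942, 24520494,
  11212826213, 47891, 89702609710, 1401603276, 91846011673, 1435101977, 11480754969, 2835, 22686, 5987, 1250, 181493,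
  443637, 28391797, 743580, 10006, 209069870, 80053, 3327221, 3548981, 193905893, 408339, 158, 1549149797, 19,
  12393198382, 3327206, 26617646, 52021, 6499, 383132, 175200409, 6965, 867, 3065061, 179399449, 14536600345,
  1817078553, 226, 1814, 640428, 1451948, 55454, 3548974, 415902, 443622, 3266716, 26133733, 117, 885, 22684, 42771,
  5548, 5347, 693, 675, 814, 193643724, 102, 415900, 3327205, 30445482798, 6502, 24205465, 3327404, 443820, 28, 230,
  870, 109025880857, 227142425, 28404505, 47625351982, 5953168997, 14517, 1813, 55477, 6931, 443621, 175192857,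
  116140, 2737388, 415925, 51987, 55452, 21900057, 3, 99114627886, 30, 12389328485, 14, 110, 14508, 342173, 5350,
  42781, 101, 475710668, 86, 686, 12, 3805685349, 929122, 2803116, 1845, 229, 812, 59463833, 108, 13628238617,
  1703537433, 212953881, 164860455705, 744146124, 6934, 92924697, 5909, 738, 51990, 3025689, 47276, 29, 342188,
  89327032526, 1, 13, 245, 1548666060, 5346, 42773, 668, 5349, 678, 670, 10, 85, 43829, 5478, 378210, 2737506, 741,
  92, 15714, 24197913, 118114, 11627289, 27421502233, 12017621198, 20607560473, 2575952665, 866, 40987417, 14764,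
  6498, 93018265, 7432985, 1964, 193583257, 98, 11165879065, 350389, 43798, 789, 1395735321, 94, 236, 84, 83, 50530,
  59370265, 42796, 684, 47458, 3427691289, 53556014, 78736153, 1402349358, 175515438, 1435093932, 1502202649,
  22423342, 5932, 179386741, 322005785, 6316, 174467865, 342370, 5474, 11, 674, 281, 669, 47894, 187783321, 6694501,
  5986, 428562585, 1817, 5356, 175293669, 428469017, 21939429, 187775769, 179386796, 2802917, 748, 22423349, 53570329,
  14489, 42850, 5990, 23472921, 93, 750, 836812, 2742428, 21911708, 22423468, 350364, 2802918, 104601, 342803,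
  2738963, 43795, 2802933, 350366, 350453, 43806, 342371, 5475, 13081, 42851]

theorem cl2_ok : (cl2.map fun n => key L2 (dec 16 n)).IsChain (· < ·) ∧ cl2.length = 45 := by decide +kernel

theorem cl4_ok : (cl4.map fun n => key L4 (dec 16 n)).IsChain (· < ·) ∧ cl4.length = 540 := by decide +kernel

variable {p : ℕ} [Fact p.Prime] {k : Type} [Field k] [CharP k p] [IsAlgClosed k] {Mx : Matrix (Fin 6) (Fin 6) ℤ}

theorem key_eq (X : XF hpE6 p k Mx) (U L : List (Fin 6)) :
    key U L = hs (List.ofFn (wm X (wd L * wd U * (wd L)⁻¹) *ᵥ fun _ => 1)) := by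
  rw [key, app_ofFn isRows_E6, ← wordProd_reverse, ← wordProd_append, ← wordProd_append]
  exact congrArg (fun A : Matrix (Fin 6) (Fin 6) ℤ => hs (List.ofFn (A *ᵥ fun _ => 1))) (wm_wd X _).symm

theorem card_cent (X : XF hpE6 p k Mx) {U : List (Fin 6)} {Ws : List ℕ}
    (h : (Ws.map fun n => key U (dec 16 n)).IsChain (· < ·)) :
    Ws.length * Nat.card (Subgroup.centralizer ({wd U} : Set W6)) ≤ 51840 := by
  have : Finite W6 := Nat.finite_of_card_ne_zero (by rw [card_W_E6]; decide)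
  have h1 : (Ws.map fun n => key U (dec 16 n)).Nodup := (List.isChain_iff_pairwise.1 h).imp ne_of_lt
  rw [← card_W_E6, ← (Subgroup.centralizer ({wd U} : Set W6)).index_mul_card]
  refine Nat.mul_le_mul_right _ ?_
  rw [← Nat.card_fin Ws.length]
  refine Nat.card_le_card_of_injective (fun i => QuotientGroup.mk (wd (dec 16 (Ws.get i)))) fun i j e => ?_
  have h2 := Subgroup.mem_centralizer_singleton_iff.1 (QuotientGroup.eq.1 e)
  refine List.nodup_iff_injective_get.1 (List.Nodup.of_map _ h1) (List.inj_on_of_nodup_map h1 (List.get_mem _ _)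
    (List.get_mem _ _) ?_)
  have h3 : ∀ a b u : W6, a⁻¹ * b * u = u * (a⁻¹ * b) → a * u * a⁻¹ = b * u * b⁻¹ := fun a b u e => by
    calc a * u * a⁻¹ = a * (u * (a⁻¹ * b)) * b⁻¹ := by group
      _ = b * u * b⁻¹ := by rw [← e]; group
  show key U _ = key U _
  rw [key_eq X, key_eq X, h3 _ _ _ h2]

namespace Fm

variable {X : XF hpE6 p k Mx} {w₀ : W6} {Q : ℤ} (h : Fm X w₀ Q)
include h

theorem Fw_eq (v : W6) : (show W6 from X.D.Fw v) = w₀⁻¹ * v * w₀ := by rw [mul_assoc, ← h.mul_Fw, inv_mul_cancel_left]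

theorem card_CW (a : W6) : Nat.card (CW X.D (a * w₀ : W6)) = Nat.card (Subgroup.centralizer ({a} : Set W6)) :=
  Nat.card_congr (Equiv.subtypeEquivRight fun v : W6 =>
    (h.tc_iff (v := v)).trans (eq_comm.trans Subgroup.mem_centralizer_singleton_iff.symm))

theorem card_CW2 : Nat.card (CW X.D (c ^ 6 * w₀ : W6)) ≤ 1152 := by
  have h1 := card_cent X cl2_ok.1
  rw [cl2_ok.2] at h1
  rw [h.card_CW, c_six]
  omega

theorem card_CW4 : Nat.card (CW X.D (c ^ 3 * w₀ : W6)) ≤ 96 := by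
  have h1 := card_cent X cl4_ok.1
  rw [cl4_ok.2] at h1
  rw [h.card_CW, c_three]
  omega

variable [Fintype ↥(GF X.F ⊤)]

theorem syl (j : ℕ) (hd : (j = 6 ∧ Q % 5 = 4) ∨ (j = 3 ∧ (Q % 5 = 2 ∨ Q % 5 = 3))) : SylT X.D 5 (c ^ j * w₀ : W6) := by
  rcases hd with ⟨rfl, e⟩ | ⟨rfl, e⟩
  · exact c_six ▸ h.syl2 e
  · exact c_three ▸ h.syl4 e

theorem cub' (hQ : Q % 5 = 4) : (Nat.card ↥(GF X.F ⊤)).factorization 5 ≤
    (ordT X.D (sr 0 * sr 1 * w₀ : W6)).factorization 5 + (ordT X.D (sr 0 * sr 1 * w₀ : W6)).factorization 5 :=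
  wd_01 ▸ h.cub hQ

theorem cub_le (hQ : Q % 5 = 4) : (ordT X.D (c ^ 6 * w₀ : W6)).factorization 5 ≤
    2 * (ordT X.D (sr 0 * sr 1 * w₀ : W6)).factorization 5 := by
  have h1 : (Nat.card ↥(GF X.F ⊤)).factorization 5 = _ := h.syl 6 (.inl ⟨rfl, hQ⟩)
  have h2 := h.cub' hQ
  omega

end Fm

theorem conj_sr (X : XF hpE6 p k Mx) (i : Fin 6) : (c ^ 6)⁻¹ * sr i * c ^ 6 = sr (fl i) := by
  rw [mul_assoc, inv_mul_eq_iff_eq_mul, c_six, ← wd_single, ← wd_single]
  refine wm_inj X ?_
  rw [wm_mul, wm_mul, wm_wd, wm_wd, wm_wd, mt_L2]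
  revert i
  decide +kernel

/-- the action of the Frobenius map on the simple reflections -/
theorem Cs.Fw_simple {X : XF hpE6 p k Mx} {w₀ : W6} {Q : ℤ} (hc : Cs Mx w₀ Q) (h : Fm X w₀ Q) :
    (w₀ = 1 ∧ ∀ i, (show W6 from X.D.Fw (sr i)) = sr i) ∨
      (w₀ = c ^ 6 ∧ ∀ i, (show W6 from X.D.Fw (sr i)) = sr (fl i)) := by
  rcases hc with ⟨-, e⟩ | ⟨-, e⟩
  · exact .inl ⟨e, fun i => by rw [h.Fw_eq, e, inv_one, one_mul, mul_one]⟩
  · exact .inr ⟨e, fun i => by rw [h.Fw_eq, e, conj_sr X]⟩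

/-- the statement for the datum -/
def BoxH : Prop :=
  ∀ (p : ℕ) [Fact p.Prime] (k : Type) [Field k] [CharP k p] [IsAlgClosed k] (Mx : Matrix (Fin 6) (Fin 6) ℤ)
    (X : XF hpE6 p k Mx) [Fintype ↥(GF X.F ⊤)] (M : Ideal AlgInt) (w₀ : W6) (Q : ℤ) (j : ℕ), IsPModular 5 M → 5 ≠ p →
    Cs Mx w₀ Q → Fm X w₀ Q → (j = 6 ∧ Q % 5 = 4) ∨ (j = 3 ∧ (Q % 5 = 2 ∨ Q % 5 = 3)) → HZ0 5 M ↥(GF X.F ⊤)

/-- **both rows** -/
theorem rows_of (H : BoxH) : Row 5 (ChevX 5 chevE6 0) ∧ Row 5 (TwE6X 5) := by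
  have h1 : ∀ Q : ℤ, Q % 5 = 4 ∨ Q % 5 = 2 ∨ Q % 5 = 3 →
      ∃ j : ℕ, (j = 6 ∧ Q % 5 = 4) ∨ (j = 3 ∧ (Q % 5 = 2 ∨ Q % 5 = 3)) := fun Q h =>
    h.elim (fun e => ⟨6, .inl ⟨rfl, e⟩⟩) fun e => ⟨3, .inr ⟨rfl, e⟩⟩
  refine ⟨row_e6_of fun p _ k _ _ _ q X _ M hM hp h hq => ?_, row_tw6_of fun p _ k _ _ _ q X _ M hM hp h hq => ?_⟩
  · obtain ⟨j, hj⟩ := h1 _ hq
    exact H p k _ X M 1 q j hM hp (.inl ⟨rfl, rfl⟩) h hj
  · obtain ⟨j, hj⟩ := h1 _ hq
    exact H p k _ X M _ (-q) j hM hp (.inr ⟨by rw [neg_neg], c_six.symm⟩) h hj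

end Cfsg.Agent.LV.E6
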