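import Cfsg.Agent.LV.E6.Fr2
import Cfsg.Agent.LV.TF.Main
import Cfsg.Agent.LV.Lab.Defs

/-!
# LV, `E₆` and `²E₆` for `p = 5`: free orbits on the labels of the Sylow torus (helper29)

`dvd24`, `card_CW`.
-/

set_option autoImplicit false
set_option linter.unusedSectionVars false

namespace Cfsg.Agent.LV.E6

open CoxeterSystem Cfsg Cfsg.Lie Cfsg.Agent.DL Cfsg.Agent.DL.PP Cfsg.Agent.KZ.Lie Cfsg.Agent.KZ.DatX Cfsg.Agent.LV.Blk
  Cfsg.Agent.ChevalleyStructure.CoxeterGeomTypes Cfsg.Agent.Nodes.RGDChev Matrix Cfsg.Agent.Characters.Core Cfsg.Agent.KZ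
  Cfsg.Agent.KZ.G2 Cfsg.Agent.KZ.TF.Mix

section Gen

variable {p : ℕ} [Fact p.Prime] {k : Type} [Field k] [CharP k p] {Y : Type} [Group Y] {N : Type} [Fintype N] [DecidableEq N]
  {ρ : Y →* GL N k} {F : MulAut Y} {G : Subgroup Y} [IsAlgClosed k] {D : Datum p ρ F G} {f : Fr D} [Fintype ↥(GF F G)]

/-- free actions of an element of order `8` and of an element of order `3` -/
theorem gen24 (hA : Api f) (χ : IrrCharacter ↥(GF F G)) {l : ℕ} {w v u : D.W} (h8 : v ∈ CW D w) (h3 : u ∈ CW D w)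
    (e8 : v ^ 2 ^ (2 + 1) = 1) (e3 : u ^ 3 = 1) (f8 : ∀ b, Fx D w b → IsL l b → Rel D (v ^ 2 ^ 2) b b → b = 1)
    (f3 : ∀ b, Fx D w b → IsL l b → Rel D u b b → b = 1) (h0 : Lab.yv f χ.1 1 w = 0) {m : ℤ} (hm : mL f l w 1 χ.1 = m) :
    24 ∣ m ∧ m.natAbs ≤ Nat.card (CW D w) := by
  classical
  have := Fintype.ofFinite (LS D l w)
  obtain ⟨S, hS⟩ : ∃ S : Finset (Lbl D), ∀ b, b ∈ S ↔ b ≠ 1 ∧ b ∈ LS D l w :=
    ⟨(Set.toFinset (LS D l w : Set (Lbl D))).erase 1, fun b => by simp⟩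
  have h1 : mL f l w 1 χ = (∑ b ∈ S, mu (RW f w b) χ : ℤ) := by
    rw [mL_sum f (G2.fx_one _), ← Finset.sum_subtype (insert 1 S) (p := (· ∈ LS D l w)) (fun b => ?_)
      fun b => classInner χ.1 (RW f w (1 * b)), Finset.sum_insert fun e => ((hS _).1 e).1 rfl, mul_one,
      show classInner χ.1 (RW f w 1) = 0 from h0, zero_add, Int.cast_sum]
    · exact Finset.sum_congr rfl fun b _ => by rw [one_mul, mu_spec (hA.gen _ _)]
    · rw [Finset.mem_insert, hS]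
      exact ⟨fun e => e.elim (fun e => e ▸ one_mem _) (·.2), fun e => (em (b = 1)).imp_right fun e' => ⟨e', e⟩⟩
  obtain rfl : m = ∑ b ∈ S, mu (RW f w b) χ := Int.cast_injective (hm.symm.trans h1)
  have h2 : ∀ v ∈ CW D w, ∀ b ∈ S, ∀ b', Rel D v b' b → b' ∈ S := fun v hv b hb b' e => by
    obtain ⟨h1, h2, j, h3⟩ := (hS b).1 hb
    refine (hS b').2 ⟨fun e' => h1 (eq_one_of_rel' (e' ▸ e)), fx_tc h2 (inv_mem hv) e.symm, j, ?_⟩
    rw [rel_iff.1 e, ← map_pow, h3, map_one]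
  have d8 := TF.dvd_lab hA χ h8 Nat.prime_two (a := 2) e8 S (h2 _ h8) fun b hb e =>
    ((hS b).1 hb).1 (f8 b ((hS b).1 hb).2.1 ((hS b).1 hb).2.2 e)
  have d3 := TF.dvd_lab hA χ h3 Nat.prime_three (a := 0) e3 S (h2 _ h3) fun b hb e =>
    ((hS b).1 hb).1 (f3 b ((hS b).1 hb).2.1 ((hS b).1 hb).2.2 (by rwa [pow_zero, pow_one] at e))
  refine ⟨(show IsCoprime (8 : ℤ) 3 by norm_num).mul_dvd d8 d3, Int.ofNat_le.1 ?_⟩
  rw [Int.natCast_natAbs]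
  exact ((Finset.abs_sum_le_sum_abs _ _).trans
    (Finset.sum_le_sum fun b _ => (Int.le_self_sq _).trans_eq (sq_abs _))).trans (TF.bes_tor hA χ _ S)

end Gen

/-- an element of order `8` -/
def V8 : List (Fin 6) := [3, 4, 5, 2, 1, 3, 4, 0, 2]

/-- an element of order `3` -/
def V3 : List (Fin 6) := pwL [0, 3, 5, 1, 2, 4] 4

/-- its matrix -/
def A3 : Matrix (Fin 6) (Fin 6) ℤ := of fun i j => (app rowsE6 V3 (List.ofFn fun a : Fin 6 => if a = j then 1 else 0)).getD i 0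

theorem mt_V3 : mt V3 = A3 := prod_eq_of isRows_E6 _ (by decide +kernel)

theorem A3_sq : A3 * A3 + A3 + 1 = 0 := by decide +kernel

theorem mt_V8 : mt (V8 ++ V8) = A4 := prod_eq_of isRows_E6 _ (by decide +kernel)

variable {p : ℕ} [Fact p.Prime] {k : Type} [Field k] [CharP k p] [IsAlgClosed k] {Mx : Matrix (Fin 6) (Fin 6) ℤ}

theorem v8_sq (X : XF hpE6 p k Mx) : wd V8 ^ 2 = wd L4 := by
  rw [sq, ← wordProd_append]
  exact wm_inj X (by rw [wm_wd, wm_wd, mt_V8, mt_L4])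

theorem v8_four (X : XF hpE6 p k Mx) : wd V8 ^ 2 ^ 2 = wd L2 := by rw [sq 2, pow_mul, v8_sq X, sq, wd_L4]

theorem l2_sq (X : XF hpE6 p k Mx) : wd L2 ^ 2 = 1 :=
  wm_inj X (by rw [sq, wm_mul, wm_wd, mt_L2, wm_one, neg_mul_neg]; decide +kernel)

theorem wm_v3 (X : XF hpE6 p k Mx) : wm X (c ^ 4) * wm X (c ^ 4) + wm X (c ^ 4) + 1 = 0 := by
  rw [c_pow, wm_wd]
  exact mt_V3 ▸ A3_sq

/-- the value of a label -/
noncomputable def ch (X : XF hpE6 p k Mx) (y : Fin 6 → ℤ) (b : Lbl X.D) : ℂˣ := chr (R := Fin 6) y b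

section Ch

variable {X : XF hpE6 p k Mx} {b : Lbl X.D}

theorem ch_rel {v : W6} (h : Rel X.D v b b) (y : Fin 6 → ℤ) : ch X (wm X v *ᵥ y) b = ch X y b := h y

theorem ch_add (y y' : Fin 6 → ℤ) : ch X (y + y') b = ch X y b * ch X y' b := chr_add _ _ _

theorem ch_zsmul (a : ℤ) (y : Fin 6 → ℤ) : ch X (a • y) b = ch X y b ^ a := chr_zsmul _ _ _

theorem ch_zero : ch X 0 b = 1 := chr_zero _

theorem pow_of_ch {n : ℕ} (h : ∀ y, ch X y b ^ n = 1) : b ^ n = 1 :=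
  eq_of_chr X.D fun y => by rw [map_pow, map_one]; exact h y

theorem Fm.ch_fx {w₀ : W6} {Q : ℤ} (h : Fm X w₀ Q) {u : W6} (hb : Fx X.D (u * w₀ : W6) b) (y : Fin 6 → ℤ) :
    ch X (wm X u *ᵥ y) b ^ Q = ch X y b := by
  rw [← ch_zsmul, ← smul_mulVec, ← h.Wm_mul]
  exact hb y

theorem eq_one_of_zpow (hb : IsL 5 b) {n : ℤ} (hn : ¬ 5 ∣ n) (h : ∀ y, ch X y b ^ n = ch X y b ^ (0 : ℤ)) : b = 1 :=
  TF.eq_one_of hb (n := n.natAbs) ((Nat.Prime.coprime_iff_not_dvd Nat.prime_five).2 fun e => hn (Int.ofNat_dvd_left.2 e))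
    (pow_of_ch fun y => by rw [pow_natAbs_eq_one, h, zpow_zero])

end Ch

variable {X : XF hpE6 p k Mx} {w₀ : W6} {Q : ℤ} (Φ : Fm X w₀ Q)
include Φ

/-- the longest element fixes no non-trivial label of the Sylow torus -/
theorem free2 {L : List (Fin 6)} (hL : (L = L2 ∧ Q % 5 = 4) ∨ (L = L4 ∧ (Q % 5 = 2 ∨ Q % 5 = 3))) {b : Lbl X.D}
    (hb : Fx X.D (wd L * w₀ : W6) b) (h5 : IsL 5 b) (e : Rel X.D (wd L2) b b) : b = 1 := by
  rcases hL with ⟨rfl, hQ⟩ | ⟨rfl, hQ⟩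
  · refine eq_one_of_zpow h5 (n := Q - 1) (by omega) fun y => ?_
    have h1 := Φ.ch_fx hb y
    rw [ch_rel e] at h1
    rw [_root_.zpow_sub_one, h1, mul_inv_cancel, _root_.zpow_zero]
  · refine eq_one_of_zpow h5 (n := Q * Q - 1) (fun h => ?_) fun y => ?_
    · have h1 : Q * Q % 5 = 4 := by
        rw [Int.mul_emod]
        rcases hQ with e | e <;> rw [e] <;> rfl
      omega
    · have h1 := Φ.ch_fx hb y
      rw [← Φ.ch_fx hb (_ *ᵥ y), mulVec_mulVec, ← wm_mul, wd_L4, ch_rel e, ← _root_.zpow_mul] at h1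
      rw [_root_.zpow_sub_one, h1, mul_inv_cancel, _root_.zpow_zero]

theorem card_CW : Nat.card (CW X.D (wd L2 * w₀ : W6)) ≤ 1152 ∧ Nat.card (CW X.D (wd L4 * w₀ : W6)) ≤ 96 :=
  ⟨c_six ▸ Φ.card_CW2, c_three ▸ Φ.card_CW4⟩

variable [Fintype ↥(GF X.F ⊤)]

/-- **the multiplicity for a character orthogonal to the unipotent term** -/
theorem dvd24 {L : List (Fin 6)} (hL : (L = L2 ∧ Q % 5 = 4) ∨ (L = L4 ∧ (Q % 5 = 2 ∨ Q % 5 = 3))) (f : Fr X.D)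
    (χ : IrrCharacter ↥(GF X.F ⊤)) (h0 : Lab.yv f χ.1 1 (wd L * w₀ : W6) = 0) {m : ℤ}
    (hm : mL f 5 (wd L * w₀ : W6) 1 χ.1 = m) : 24 ∣ m ∧ m.natAbs ≤ Nat.card (CW X.D (wd L * w₀ : W6)) := by
  have h8 : wd V8 ∈ CW X.D (wd L * w₀ : W6) := Φ.tc_iff.2 (by
    rcases hL with ⟨rfl, -⟩ | ⟨rfl, -⟩
    · rw [← v8_four X, ← pow_succ, pow_succ']
    · rw [← v8_sq X, ← pow_succ, pow_succ'])
  have h3 : (c ^ 4 : W6) ∈ CW X.D (wd L * w₀ : W6) := Φ.tc_iff.2 (by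
    rcases hL with ⟨rfl, -⟩ | ⟨rfl, -⟩
    · rw [← c_six, ← pow_add, ← pow_add]
    · rw [← c_three, ← pow_add, ← pow_add])
  have e8 : wd V8 ^ 2 ^ (2 + 1) = 1 := by rw [pow_succ 2, pow_mul, v8_four X, l2_sq X]
  have e3 : (c ^ 4) ^ 3 = 1 := by rw [← l2_sq X, ← c_six, ← pow_mul, ← pow_mul]
  refine gen24 (Mts.boxApi f X.D_qs) χ h8 h3 e8 e3
    (fun b h2 h4 e => free2 Φ hL h2 h4 (v8_four X ▸ e)) (fun b _ h2 e => ?_) h0 hm
  refine TF.eq_one_of h2 (n := 3) (by decide) (pow_of_ch fun y => ?_)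
  have h10 := congrArg (fun A => ch X (A *ᵥ y) b) (wm_v3 X)
  simp only [add_mulVec, one_mulVec, zero_mulVec, ← mulVec_mulVec, ch_add, ch_rel e, ch_zero] at h10
  rw [pow_succ, sq, h10]

end Cfsg.Agent.LV.E6
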