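import Cfsg.Agent.LV.Blk.Sit
import Cfsg.Agent.KZ.DatX.Main
import Cfsg.Agent.KZ.DatX.Weyl
import Cfsg.Agent.S1063
import Cfsg.Agent.S1066

/-!
# LV, `E₆` and `²E₆` for `p = 5`: the group side (helper29)

* `Fm X w₀ Q` : `w₀ F` acts on the torus by the scalar `Q`, and the `5`-part of the order is the one of `ord Q`;
* `Fm.ordT_wd`, `Fm.syl2`, `Fm.syl4`, `Fm.cub`, `Fm.not_ab`;
* `row_e6_of`, `row_tw6_of` : the rows from the statements for the datum.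
-/

set_option autoImplicit false
set_option linter.unusedSectionVars false

namespace Cfsg.Agent.LV.E6

open CoxeterSystem Cfsg Cfsg.Lie Cfsg.Agent.DL Cfsg.Agent.DL.PP Cfsg.Agent.KZ.Lie Cfsg.Agent.KZ.DatX Cfsg.Agent.LV.Blk
  Cfsg.Agent.ChevalleyStructure.CoxeterGeomTypes Cfsg.Agent.Nodes.RGDChev Matrix

/-- the Weyl group -/
abbrev W6 : Type := CoxeterMatrix.E₆.Group

/-- a word -/
abbrev wd (L : List (Fin 6)) : W6 := CoxeterMatrix.E₆.toCoxeterSystem.wordProd L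

/-- the matrix of a word -/
abbrev mt (L : List (Fin 6)) : Matrix (Fin 6) (Fin 6) ℤ := (L.map (sM chevE6 6)).prod

/-- the longest element -/
def L2 : List (Fin 6) := pwL [0, 3, 5, 1, 2, 4] 6

/-- a square root of the longest element -/
def L4 : List (Fin 6) := pwL [0, 3, 5, 1, 2, 4] 3

theorem wd_L4 : wd L4 * wd L4 = wd L2 := (wordProd_append _ L4 L4).symm

theorem mt_L2 : mt L2 = -P6 := neg_E6

theorem det_conj {A B B' T : Matrix (Fin 6) (Fin 6) ℤ} (h : A * B = B * T) (h' : B * B' = (2 : ℤ) • 1) (Q : ℤ) :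
    (Q • A - 1).det = (Q • T - 1).det := by
  have h1 : (Q • A - 1) * B = B * (Q • T - 1) := by
    rw [sub_mul, mul_sub, one_mul, mul_one, smul_mul_assoc, h, mul_smul_comm]
  have h2 := congrArg det h1
  have h3 := congrArg det h'
  rw [det_mul, det_smul, det_one, Fintype.card_fin] at h3
  rw [det_mul, det_mul, mul_comm] at h2
  exact mul_left_cancel₀ (left_ne_zero_of_mul (show B.det * B'.det ≠ 0 by rw [h3]; decide)) h2

theorem det_diag (t : Fin 6 → ℤ) (Q : ℤ) : (Q • diagonal t - 1).det = ∏ i, (Q * t i - 1) := by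
  rw [← diagonal_smul, ← diagonal_one, diagonal_sub, det_diagonal]
  rfl

theorem det2 (Q : ℤ) : (Q • mt L2 - 1).det = (Q + 1) ^ 4 * (Q - 1) ^ 2 := by
  rw [mt_L2, det_conj (A := -P6) (T := diagonal ![-1, -1, -1, -1, 1, 1])
    (B := !![1, 0, 0, 0, 1, 0; 0, 1, 0, 0, 0, 0; 0, 0, 1, 0, 0, 1; 0, 0, 0, 1, 0, 0; 0, 0, 1, 0, 0, -1; 1, 0, 0, 0, -1, 0])
    (B' := !![1, 0, 0, 0, 0, 1; 0, 2, 0, 0, 0, 0; 0, 0, 1, 0, 1, 0; 0, 0, 0, 2, 0, 0; 1, 0, 0, 0, 0, -1; 0, 0, 1, 0, -1, 0])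
    (by decide +kernel) (by decide +kernel), det_diag]
  simp [Fin.prod_univ_six]
  ring

theorem det1 (Q : ℤ) : (Q • mt [0, 1] - 1).det = (Q + 1) ^ 2 * (Q - 1) ^ 4 := by
  rw [show mt [0, 1] = !![-1, 0, 0, 0, 0, 0; 0, -1, 0, 0, 0, 0; 1, 0, 1, 0, 0, 0; 0, 1, 0, 1, 0, 0; 0, 0, 0, 0, 1, 0;
      0, 0, 0, 0, 0, 1] from prod_eq_of isRows_E6 _ (by decide +kernel), det_conj (T := diagonal ![-1, -1, 1, 1, 1, 1])
    (B := !![2, 0, 0, 0, 0, 0; 0, 2, 0, 0, 0, 0; -1, 0, 1, 0, 0, 0; 0, -1, 0, 1, 0, 0; 0, 0, 0, 0, 1, 0; 0, 0, 0, 0, 0, 1])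
    (B' := !![1, 0, 0, 0, 0, 0; 0, 1, 0, 0, 0, 0; 1, 0, 2, 0, 0, 0; 0, 1, 0, 2, 0, 0; 0, 0, 0, 0, 2, 0; 0, 0, 0, 0, 0, 2])
    (by decide +kernel) (by decide +kernel), det_diag]
  simp [Fin.prod_univ_six]
  ring

/-- the matrix of `L4` -/
def A4 : Matrix (Fin 6) (Fin 6) ℤ := !![0, 0, -1, -1, -1, -1; 0, 1, 1, 2, 1, 0; 1, 1, 2, 2, 1, 1; -1, -2, -2, -3, -2, -1;
  1, 1, 1, 2, 2, 1; -1, 0, -1, -1, -1, 0]

theorem mt_L4 : mt L4 = A4 := prod_eq_of isRows_E6 _ (by decide +kernel)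

theorem det4 (Q : ℤ) : (Q • mt L4 - 1).det = (Q ^ 2 + 1) ^ 2 * (Q - 1) ^ 2 := by
  rw [mt_L4, det_conj
    (T := !![0, -1, 0, 0, 0, 0; 1, 0, 0, 0, 0, 0; 0, 0, 0, -1, 0, 0; 0, 0, 1, 0, 0, 0; 0, 0, 0, 0, 1, 0; 0, 0, 0, 0, 0, 1])
    (B := !![0, 0, 0, -1, 1, 0; 1, 1, 0, 2, 0, 0; 0, 1, 0, 2, 0, 1; 0, -2, 1, -3, 0, 0; 0, 1, 0, 2, 0, -1; 0, 0, 0, -1, -1, 0])
    (B' := !![0, 2, -1, 0, -1, 0; 2, 0, 1, 0, 1, 2; 1, 0, 2, 2, 2, 1; -1, 0, 0, 0, 0, -1; 1, 0, 0, 0, 0, -1;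
      0, 0, 1, 0, -1, 0]) (by decide +kernel) (by decide +kernel),
    show Q • !![0, -1, 0, 0, 0, 0; 1, 0, 0, 0, 0, 0; 0, 0, 0, -1, 0, 0; 0, 0, 1, 0, 0, 0; 0, 0, 0, 0, 1, 0; 0, 0, 0, 0, 0, 1] - 1 =
      !![-1, -Q, 0, 0, 0, 0; Q, -1, 0, 0, 0, 0; 0, 0, -1, -Q, 0, 0; 0, 0, Q, -1, 0, 0; 0, 0, 0, 0, Q - 1, 0;
        0, 0, 0, 0, 0, Q - 1] by
      ext i j
      fin_cases i <;> fin_cases j <;> simp]
  simp [det_succ_row_zero, Fin.sum_univ_succ, Fin.succAbove]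
  ring

/-- the order polynomial -/
def ord (Q : ℤ) : ℤ := Q ^ 36 * (Q ^ 2 - 1) * (Q ^ 5 - 1) * (Q ^ 6 - 1) * (Q ^ 8 - 1) * (Q ^ 9 - 1) * (Q ^ 12 - 1)

theorem fac_mul {a R : ℤ} (n : ℕ) (ha : a ≠ 0) (hR : (R : ZMod 5) ≠ 0) :
    (a ^ n * R).natAbs.factorization 5 = n * a.natAbs.factorization 5 := by
  have h1 : ¬ 5 ∣ R.natAbs := fun h => hR ((ZMod.intCast_zmod_eq_zero_iff_dvd R 5).2 (Int.ofNat_dvd_left.2 h))
  rw [Int.natAbs_mul, Int.natAbs_pow, Nat.factorization_mul (pow_ne_zero _ (Int.natAbs_ne_zero.2 ha))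
    (fun e => h1 (by rw [e]; exact dvd_zero _)), Finsupp.add_apply, Nat.factorization_eq_zero_of_not_dvd h1, add_zero,
    Nat.factorization_pow, Finsupp.smul_apply, smul_eq_mul]

theorem cast_of {Q r : ℤ} (h : Q % 5 = r) : (Q : ZMod 5) = r := by
  rw [← h]
  exact (ZMod.intCast_mod Q 5).symm

theorem fac_ord2 {Q : ℤ} (h : Q % 5 = 4) (h0 : Q + 1 ≠ 0) :
    (ord Q).natAbs.factorization 5 = 4 * (Q + 1).natAbs.factorization 5 := by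
  rw [show ord Q = (Q + 1) ^ 4 * (Q ^ 36 * (Q - 1) * (Q ^ 5 - 1) * ((Q ^ 3 - 1) * (Q ^ 2 - Q + 1)) *
    ((Q - 1) * (Q ^ 2 + 1) * (Q ^ 4 + 1)) * (Q ^ 9 - 1) * ((Q ^ 3 - 1) * (Q ^ 2 - Q + 1) * (Q ^ 6 + 1))) by
      rw [ord]; ring]
  refine fac_mul 4 h0 ?_
  push_cast
  rw [cast_of h]
  decide +kernel

theorem fac_ord4 {Q : ℤ} (h : Q % 5 = 2 ∨ Q % 5 = 3) :
    (ord Q).natAbs.factorization 5 = 2 * (Q ^ 2 + 1).natAbs.factorization 5 := by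
  rw [show ord Q = (Q ^ 2 + 1) ^ 2 * (Q ^ 36 * (Q ^ 2 - 1) * (Q ^ 5 - 1) * (Q ^ 6 - 1) *
    ((Q ^ 2 - 1) * (Q ^ 4 + 1)) * (Q ^ 9 - 1) * ((Q ^ 6 - 1) * (Q ^ 4 - Q ^ 2 + 1))) by
      rw [ord]; ring]
  refine fac_mul 2 (by positivity) ?_
  push_cast
  rcases h with h | h <;> rw [cast_of h] <;> decide +kernel

variable {p : ℕ} [Fact p.Prime] {k : Type} [Field k] [CharP k p] [IsAlgClosed k] {Mx : Matrix (Fin 6) (Fin 6) ℤ}

/-- the matrix of an element of the Weyl group -/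
noncomputable def wm (X : XF hpE6 p k Mx) (w : W6) : Matrix (Fin 6) (Fin 6) ℤ := X.D.Wm w

section Wm

variable (X : XF hpE6 p k Mx)

theorem wm_mul (u v : W6) : wm X (u * v) = wm X u * wm X v := X.D.Wm_mul u v

theorem wm_one : wm X 1 = 1 := X.D.Wm_one

theorem wm_wd (L : List (Fin 6)) : wm X (wd L) = mt L := X.Wm_word L

theorem wm_inj {u v : W6} (h : wm X u = wm X v) : u = v := X.D.Wm_injective h

theorem Mx_wm (w : W6) : Mx * wm X w = wm X (X.D.Fw w) * Mx := X.D.Mx_Wm w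

include X in
theorem det_Mx : Mx.det ≠ 0 := X.D.det_Mx_ne_zero

theorem det_wm (w : W6) : (wm X w).det.natAbs = 1 := natAbs_det_Wm (D := X.D) w

theorem ordT_wm (w : W6) : ordT X.D w = (wm X w * Mx - 1).det.natAbs := rfl

end Wm

/-- the scalar setting -/
structure Fm (X : XF hpE6 p k Mx) (w₀ : W6) (Q : ℤ) : Prop where
  eq : wm X w₀ * Mx = Q • 1
  ord : (Nat.card ↥(GF X.F ⊤)).factorization 5 = (ord Q).natAbs.factorization 5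

namespace Fm

variable {X : XF hpE6 p k Mx} {w₀ : W6} {Q : ℤ} (h : Fm X w₀ Q)
include h

theorem Wm_mul (u : W6) : wm X (u * w₀) * Mx = Q • wm X u := by
  rw [wm_mul, mul_assoc, h.eq, mul_smul_comm, mul_one]

theorem ordT_mul (u : W6) : ordT X.D (u * w₀) = (Q • wm X u - 1).det.natAbs := by rw [ordT_wm, h.Wm_mul]

theorem ordT_wd (L : List (Fin 6)) : ordT X.D (wd L * w₀) = (Q • mt L - 1).det.natAbs := by rw [h.ordT_mul, wm_wd]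

theorem add_one_ne : Q + 1 ≠ 0 := fun e => ordT_ne (D := X.D) (wd L2 * w₀) (by rw [h.ordT_wd, det2, e]; simp)

theorem ne_zero : Q ≠ 0 := fun e => by
  have h1 := congrArg det h.eq
  rw [det_mul, e, zero_smul, det_zero] at h1
  exact mul_ne_zero (Int.natAbs_ne_zero.1 (by rw [det_wm]; decide)) (det_Mx X) h1

theorem mul_Fw (z : W6) : w₀ * (show W6 from X.D.Fw z) = z * w₀ := wm_inj X <| by
  have h3 : wm X w₀ * wm X (X.D.Fw z) * Mx = wm X z * wm X w₀ * Mx := by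
    rw [mul_assoc, ← Mx_wm, ← mul_assoc, h.eq, mul_assoc, h.eq, smul_mul_assoc, mul_smul_comm, one_mul, mul_one]
  have h5 := congrArg (· * Mx.adjugate) h3
  simp only [mul_assoc, mul_adjugate, mul_smul_comm, mul_one] at h5
  rw [wm_mul, wm_mul]
  exact smul_right_injective _ (det_Mx X) h5

/-- twisted conjugation -/
theorem tc_iff {v a b : W6} : Tc X.D v (a * w₀) (b * w₀) ↔ b * v = v * a := by
  have h2 : ∀ z : W6, w₀ * z = v * w₀ → (b * w₀ * z = v * (a * w₀) ↔ b * v = v * a) := fun z e => by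
    rw [mul_assoc, e, ← mul_assoc, ← mul_assoc, mul_left_inj]
  exact h2 _ (h.mul_Fw v)

variable [Fintype ↥(GF X.F ⊤)]

theorem val2 (hQ : Q % 5 = 4) :
    (Nat.card ↥(GF X.F ⊤)).factorization 5 = 4 * (Q + 1).natAbs.factorization 5 := h.ord.trans (fac_ord2 hQ h.add_one_ne)

theorem syl2 (hQ : Q % 5 = 4) : SylT X.D 5 (wd L2 * w₀) := by
  refine (h.val2 hQ).trans ?_
  rw [h.ordT_wd, det2]
  refine (fac_mul 4 h.add_one_ne ?_).symm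
  push_cast
  rw [cast_of hQ]
  decide

theorem syl4 (hQ : Q % 5 = 2 ∨ Q % 5 = 3) : SylT X.D 5 (wd L4 * w₀) := by
  refine (h.ord.trans (fac_ord4 hQ)).trans ?_
  rw [h.ordT_wd, det4]
  refine (fac_mul 2 (by positivity) ?_).symm
  push_cast
  rcases hQ with e | e <;> rw [cast_of e] <;> decide

/-- the tori for the cubic identity -/
theorem cub (hQ : Q % 5 = 4) : (Nat.card ↥(GF X.F ⊤)).factorization 5 ≤
    (ordT X.D (wd [0, 1] * w₀)).factorization 5 + (ordT X.D (wd [0, 1] * w₀)).factorization 5 := by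
  rw [h.val2 hQ, h.ordT_wd, det1, fac_mul 2 h.add_one_ne (by
    push_cast
    rw [cast_of hQ]
    decide)]
  omega

theorem not_ab (hp : 5 ≠ p) (hQ : Q % 5 = 1) : ¬ AbS 5 ↥(GF X.F ⊤) := by
  have h1 : mt [0, 2, 3, 4] = !![-1, 0, -1, -1, -1, 0; 0, 1, 0, 1, 1, 0; 1, 0, 0, 0, 0, 0; 0, 0, 1, 0, 0, 0; 0, 0, 0, 1, 0, 0;
      0, 0, 0, 0, 1, 1] := prod_eq_of isRows_E6 _ (by decide +kernel)
  have h2 : mt (pwL [0, 2, 3, 4] 5) = 1 := prod_eq_of isRows_E6 _ (by decide +kernel)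
  have h3 : wd [0, 2, 3, 4] ^ 5 ^ 1 = wd (pwL [0, 2, 3, 4] 5) := by
    simp only [pow_succ, pow_zero, one_mul, ← wordProd_append]
    rfl
  refine not_abS (D := X.D) (w := (1 * w₀ : W6)) (v := wd [0, 2, 3, 4]) Nat.prime_five hp
    (h.tc_iff.2 ((one_mul _).trans (mul_one _).symm))
    ⟨1, h3.trans (wm_inj X ((wm_wd X _).trans (h2.trans (wm_one X).symm)))⟩ ⟨1, Pi.single (0 : Fin 6) 1, ?_, ?_⟩
  · have h4 : ∀ (A : Matrix (Fin 6) (Fin 6) ℤ) (i : Fin 6), A = Q • 1 →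
        ((5 : ℕ) : ℤ) ^ 1 ∣ ((A - 1) *ᵥ Pi.single (0 : Fin 6) 1) i := fun A i e => by
      rw [e, sub_mulVec, smul_mulVec, one_mulVec, Pi.sub_apply, Pi.smul_apply, smul_eq_mul, ← sub_one_mul]
      exact Dvd.dvd.mul_right (by omega) _
    exact fun i => h4 _ i ((h.Wm_mul 1).trans (congrArg (Q • ·) (wm_one X)))
  · have h4 : ∀ A : Matrix (Fin 6) (Fin 6) ℤ, A = mt [0, 2, 3, 4] →
        ¬ ∀ i : Fin 6, ((5 : ℕ) : ℤ) ^ 1 ∣ ((A - 1) *ᵥ Pi.single (0 : Fin 6) 1) i := fun A e => by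
      rw [e, h1]
      decide +kernel
    exact h4 _ (wm_wd X _)

end Fm

theorem fm_of {X : XF hpE6 p k Mx} {Adm : Matrix (Fin 6) (Fin 6) ℤ → Prop} {n : ℕ} {S : Type} [Group S]
    (s : XS X Adm (Nat.gcd 3 n) S) {w₀ : W6} {Q : ℤ} (h : wm X w₀ * Mx = Q • 1)
    (hS : Nat.gcd 3 n * Nat.card S = (ord Q).natAbs) : Fm X w₀ Q ∧ ¬ 5 ∣ s.sit.H1.index := by
  have := X.finite
  have h1 : ¬ 5 ∣ Nat.gcd 3 n := fun e => absurd (e.trans (Nat.gcd_dvd_left _ _)) (by decide)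
  have h2 : ¬ 5 ∣ s.ov.hom.range.index := fun e => h1 (s.ov.prime_dvd Nat.prime_five e)
  have h3 : Nat.card S ≠ 0 := left_ne_zero_of_mul (s.ov.card_eq ▸ Nat.card_pos.ne')
  refine ⟨⟨h, ?_⟩, (Subgroup.ext fun _ => s.ov.mem_range.symm : s.sit.H1 = s.ov.hom.range) ▸ h2⟩
  rw [s.ov.card_eq, ← hS, Nat.factorization_mul h3 fun e => h2 (by rw [e]; exact dvd_zero _),
    Nat.factorization_mul (fun e => h1 (by rw [e]; exact dvd_zero _)) h3, Finsupp.add_apply, Finsupp.add_apply,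
    Nat.factorization_eq_zero_of_not_dvd h1, Nat.factorization_eq_zero_of_not_dvd h2, add_zero, zero_add]

theorem hz_of {X : XF hpE6 p k Mx} {Adm : Matrix (Fin 6) (Fin 6) ℤ → Prop} {n : ℕ} {S : Type} [Group S]
    (s : XS X Adm (Nat.gcd 3 n) S) {w₀ : W6} {Q : ℤ} (h : wm X w₀ * Mx = Q • 1)
    (hS : Nat.gcd 3 n * Nat.card S = (ord Q).natAbs) (hp : 5 ≠ p) (hQ : ¬ 5 ∣ Q) {M : Ideal AlgInt} (hM : IsPModular 5 M)
    (hA : AbS 5 S) (H : ∀ [Fintype ↥(GF X.F ⊤)], Fm X w₀ Q → Q % 5 = 4 ∨ Q % 5 = 2 ∨ Q % 5 = 3 → HZ0 5 M ↥(GF X.F ⊤)) :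
    HZ0 5 M S := by
  have := X.finite
  have := Fintype.ofFinite ↥(GF X.F ⊤)
  obtain ⟨h1, h2⟩ := fm_of s h hS
  refine hz_down s.sit hM (H h1 ?_)
  have h3 : Q % 5 ≠ 1 := fun e => h1.not_ab hp e (abS_up s.sit Nat.prime_five h2 (by
    rw [(MonoidHom.ker_eq_bot_iff _).2 s.sit_π_inj, Subgroup.card_bot]
    decide) hA)
  omega

/-- the statement for the split datum -/
def BoxS : Prop :=
  ∀ (p : ℕ) [Fact p.Prime] (k : Type) [Field k] [CharP k p] [IsAlgClosed k] (q : ℤ) (X : XF hpE6 p k (q • 1))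
    [Fintype ↥(GF X.F ⊤)] (M : Ideal AlgInt), IsPModular 5 M → 5 ≠ p → Fm X 1 q → q % 5 = 4 ∨ q % 5 = 2 ∨ q % 5 = 3 →
    HZ0 5 M ↥(GF X.F ⊤)

/-- the statement for the twisted datum -/
def BoxT : Prop :=
  ∀ (p : ℕ) [Fact p.Prime] (k : Type) [Field k] [CharP k p] [IsAlgClosed k] (q : ℤ) (X : XF hpE6 p k (q • P6))
    [Fintype ↥(GF X.F ⊤)] (M : Ideal AlgInt), IsPModular 5 M → 5 ≠ p → Fm X (wd L2) (-q) →
    -q % 5 = 4 ∨ -q % 5 = 2 ∨ -q % 5 = 3 → HZ0 5 M ↥(GF X.F ⊤)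

/-- both at once -/
def BoxU : Prop :=
  ∀ (p : ℕ) [Fact p.Prime] (k : Type) [Field k] [CharP k p] [IsAlgClosed k] (Mx : Matrix (Fin 6) (Fin 6) ℤ)
    (X : XF hpE6 p k Mx) [Fintype ↥(GF X.F ⊤)] (M : Ideal AlgInt) (w₀ : W6) (Q : ℤ), IsPModular 5 M → 5 ≠ p → Fm X w₀ Q →
    Q % 5 = 4 ∨ Q % 5 = 2 ∨ Q % 5 = 3 → HZ0 5 M ↥(GF X.F ⊤)

theorem BoxU.s (h : BoxU) : BoxS := fun p _ k _ _ _ _ X _ M => h p k _ X M _ _

theorem BoxU.t (h : BoxU) : BoxT := fun p _ k _ _ _ _ X _ M => h p k _ X M _ _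

theorem cast_sub {q : ℕ} (hq : 0 < q) (n : ℕ) : ((q ^ n - 1 : ℕ) : ℤ) = (q : ℤ) ^ n - 1 := by
  rw [Nat.cast_sub (Nat.one_le_pow n q hq), Nat.cast_pow, Nat.cast_one]

theorem row_e6_of (H : BoxS) : Row 5 (ChevX 5 chevE6 0) := by
  rintro M hM S _ _ - - ⟨F, _, _, h1, -, ⟨i⟩⟩ hA - -
  obtain ⟨p, e, _, _, -, he, hF, -⟩ := Ex.exists_closure F
  have hp : 5 ≠ p := fun h => h1 (hF ▸ h ▸ dvd_pow_self 5 he.ne')
  have hq : ¬ 5 ∣ (p : ℤ) ^ e := fun h => h1 (hF ▸ by exact_mod_cast h)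
  have h0 := pow_pos (Fact.out : p.Prime).pos e
  obtain ⟨k, _, _, _, X, ⟨s⟩⟩ := (has_E6 hF).congr i
  refine hz_of s (w₀ := 1) (Q := (p : ℤ) ^ e) (by rw [wm_one, one_mul]) ?_ hp hq hM hA
    (H p k _ X M hM hp)
  rw [Nat.card_congr i.toEquiv, S1063.result hF, ← Int.natAbs_natCast (_ * _)]
  congr 1
  simp only [Nat.cast_mul, cast_sub h0, Nat.cast_pow, ord]

theorem row_tw6_of (H : BoxT) : Row 5 (TwE6X 5) := by
  rintro M hM S _ _ - - ⟨K, _, _, q, h1, hq, hK, ⟨i⟩⟩ hA - -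
  obtain ⟨p, e, _, _, -, he, rfl, -⟩ := Tw.setup hq two_ne_zero hK
  have hp : 5 ≠ p := fun h => h1 (hK ▸ h ▸ (dvd_pow_self 5 he.ne').trans (dvd_pow_self _ two_ne_zero))
  have h5 : ¬ 5 ∣ -(p : ℤ) ^ e := fun h => h1 (hK ▸ Dvd.dvd.pow (by exact_mod_cast dvd_neg.1 h) two_ne_zero)
  have h0 := pow_pos (Fact.out : p.Prime).pos e
  obtain ⟨k, _, _, _, X, ⟨s⟩⟩ := (has_2E6 hK).congr i
  refine hz_of s (w₀ := wd L2) (Q := -(p : ℤ) ^ e) ?_ ?_ hp h5 hM hA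
    (H p k _ X M hM hp)
  · rw [wm_wd, mt_L2, Matrix.mul_smul, neg_mul, show P6 * P6 = 1 by decide +kernel, smul_neg]
    exact (neg_smul _ _).symm
  · rw [Nat.card_congr i.toEquiv, S1066.result hq hK, ← Int.natAbs_natCast (_ * _)]
    congr 1
    simp only [Nat.cast_mul, cast_sub h0, Nat.cast_pow, Nat.cast_add, Nat.cast_one, ord]
    ring

end Cfsg.Agent.LV.E6
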